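import Groth.Agent.GenBCLib.Deg0
import Groth.Agent.ProjBundleLib.Adjunct
import Groth.Agent.PBundleLib.Gen

/-!
# The base change map in degree zero as an adjoint
-/

set_option autoImplicit false
set_option linter.style.haveILetI false
set_option linter.unusedSectionVars false
set_option maxHeartbeats 1000000
set_option backward.isDefEq.respectTransparency false
set_option backward.isDefEq.respectTransparency.types false

universe u

open CategoryTheory CategoryTheory.Limits AlgebraicGeometry

noncomputable section

namespace Groth.Agent.AntiCanLib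

local notation "adj" => Scheme.Modules.pullbackPushforwardAdjunction

/-- The transpose along a composite, in two steps. -/
theorem homEquiv_comp' {X P Y : Scheme.{u}} (r : X ⟶ P) (p : P ⟶ Y) {E : Y.Modules} {N : X.Modules}
    (a : (Scheme.Modules.pullback r).obj ((Scheme.Modules.pullback p).obj E) ⟶ N) :
    (adj (r ≫ p)).homEquiv E N ((Scheme.Modules.pullbackComp r p).inv.app E ≫ a) =
      (adj p).homEquiv E _ ((adj r).homEquiv _ N a) ≫ (Scheme.Modules.pushforwardComp r p).hom.app N := by
  have h := unit_conjugateEquiv ((adj p).comp (adj r)) (adj (r ≫ p)) (Scheme.Modules.pullbackComp r p).inv E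
  rw [Scheme.Modules.conjugateEquiv_pullbackComp_inv] at h
  rw [Adjunction.homEquiv_unit, Functor.map_comp, ← Category.assoc, ← h, Category.assoc]
  refine (congrArg (_ ≫ ·) ((Scheme.Modules.pushforwardComp r p).hom.naturality a).symm).trans ?_
  simp only [Adjunction.comp_unit_app, Functor.comp_map, Category.assoc, Adjunction.homEquiv_unit, Functor.map_comp]

theorem pullbackCongr_symm {X Y : Scheme.{u}} {f f' : X ⟶ Y} (e : f = f') :
    (Scheme.Modules.pullbackCongr e.symm).hom = (Scheme.Modules.pullbackCongr e).inv := by
  subst e
  simp [Scheme.Modules.pullbackCongr]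

/-- The base change map is the transpose of the restricted counit. -/
theorem homEquiv_counit_eq_bc0 {C S S' C' : Scheme.{u}} (π : C ⟶ S) (g : S' ⟶ S) (π' : C' ⟶ S') (g' : C' ⟶ C)
    (w : g' ≫ π = π' ≫ g) (T : C.Modules) :
    (adj π').homEquiv _ _
        ((Scheme.Modules.pullbackComp π' g).hom.app _ ≫
          (Scheme.Modules.pullbackCongr w.symm).hom.app _ ≫
          (Scheme.Modules.pullbackComp g' π).inv.app _ ≫
          (Scheme.Modules.pullback g').map ((adj π).counit.app T)) = CohBC.bc0 π g π' g' w T := by
  simp only [Functor.id_obj]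
  apply ((adj g).homEquiv _ _).injective
  rw [CohBC.bc0, Equiv.apply_symm_apply, ← cancel_mono ((Scheme.Modules.pushforwardComp π' g).hom.app _),
    ← homEquiv_comp']
  have hA := ProjBundleLib.homEquiv_comp g' π (𝟙 ((Scheme.Modules.pushforward π).obj T))
  rw [show ((adj π).homEquiv _ T).symm (𝟙 ((Scheme.Modules.pushforward π).obj T)) = (adj π).counit.app T from by
    rw [Adjunction.homEquiv_counit, CategoryTheory.Functor.map_id, Category.id_comp], Category.id_comp] at hA
  rw [Iso.inv_hom_id_app_assoc]
  have hc : (Scheme.Modules.pullbackCongr w.symm).hom = (Scheme.Modules.pullbackCongr w).inv := by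
    exact pullbackCongr_symm w
  rw [hc, PBundleLib.homEquiv_congr' w, hA, CohBC.bc0Adj]
  simp only [Category.assoc, Iso.inv_hom_id_app, Category.comp_id]

end Groth.Agent.AntiCanLib
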