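import Groth.Agent.AntiCanLib.BaseChange
import Groth.Agent.FibBundleLib.Geom
import Groth.Agent.RelVALib.CurveGoals
import Groth.Agent.ProjBundleLib.Canon
import Groth.Agent.PBundleLib.Univ
import Groth.Agent.S5725

/-!
# The relative anticanonical embedding of a family of conics
-/

set_option autoImplicit false
set_option linter.style.haveILetI false
set_option linter.unusedSectionVars false
set_option maxHeartbeats 1000000
set_option backward.isDefEq.respectTransparency false
set_option backward.isDefEq.respectTransparency.types false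

universe u

open CategoryTheory CategoryTheory.Limits AlgebraicGeometry TopologicalSpace Opposite
open Groth.Agent.GrassShLib Groth.Agent.FlagLib

noncomputable section

namespace Groth.Agent.AntiCanLib

local instance fibreOver {C S : Scheme.{u}} (f : C ⟶ S) (s : S) :
    (f.fiber s).Over (Spec (CommRingCat.of (S.residueField s))) := ⟨f.fiberToSpecResidueField s⟩

variable {C S : Scheme.{u}} (π : C ⟶ S) [Smooth π] [IsProper π]

/-- Fibrewise data of a family of conics. -/
structure ConicData : Prop where
  conn : GeometricallyConnected π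
  dim : ∀ s : S, topologicalKrullDim ↥(π.fiber s) = 1
  genus : ∀ s : S, Curv2.genus (S.residueField s) (π.fiber s) = 0

theorem conicData (hfib : ∀ (K : Type u) [Field K] [IsAlgClosed K] (x : Spec (CommRingCat.of K) ⟶ S),
      IsIntegral (pullback π x) ∧ topologicalKrullDim ↥(pullback π x) = 1 ∧
        @Curv2.genus K _ (pullback π x) ⟨pullback.snd π x⟩ = 0) : ConicData π := by
  have h : ∀ s : S, FibBundleLib.GeomZero π s := fun s => hfib _ _
  exact ⟨(GeometricallyConnected.iff_geometricallyConnected_fiber π).2 fun b =>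
      (FibBundleLib.fibre_of_geomZero (h b)).2.2.1,
    fun b => (FibBundleLib.fibre_of_geomZero (h b)).2.1, fun b => (FibBundleLib.fibre_of_geomZero (h b)).2.2.2⟩

variable {π} (H : ConicData π) {T : C.Modules} (hT : PicF.IsInvertible T) (hT' : ClSub.IsInverseOf T (Omega.sheaf π))

include H hT hT' in
/-- The degree on the fibres. -/
theorem deg_fibre (s : S) :
    Curv2.deg (S.residueField s) (π.fiber s) ((Scheme.Modules.pullback (π.fiberι s)).obj T) 1 = 2 := by
  haveI := H.conn
  obtain ⟨hp, hs, hi, h0⟩ := CurveFamLib.fibre_setup π s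
  haveI := hp; haveI := hs; haveI := hi
  haveI := EulerIneqLib.isNoetherian_proper (X := π.fiber s) (S.residueField s)
  haveI := VBLib.isRegCurve_of_smooth (S.residueField s) (X := π.fiber s) (H.dim s).le
  obtain ⟨φ⟩ := CurveFamLib.nonempty_fibre_omega π s
  obtain ⟨e⟩ := hT'
  let g := π.fiberι s
  have hΩ := CurveFamLib.isInvertible_omega π H.dim
  have h1 := CurveLib.deg_tensor_add (k := S.residueField s) (H.dim s).le (AmpleLib.isInvertible_pullback g hT)
    (AmpleLib.isInvertible_pullback g hΩ)
  rw [CurveLib.deg_iso (k := S.residueField s) ((AmpleLib.pullTensor g _ _).symm ≪≫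
      (Scheme.Modules.pullback g).mapIso e ≪≫ AmpleLib.pullO g) 1, CurveLib.deg_structureModule,
    CurveLib.deg_iso (k := S.residueField s) φ 1,
    (CurveFF.omega_deg_h0 (S.residueField s) (H.dim s) h0).1, H.genus s] at h1
  push_cast at h1
  linarith

include H hT hT' in
theorem subsingleton_fiberH_one (s : S) : Subsingleton (CohIII.fiberH π T s 1) := by
  haveI := H.conn
  obtain ⟨hp, hs, hi, h0⟩ := CurveFamLib.fibre_setup π s
  haveI := hp; haveI := hs; haveI := hi
  haveI := EulerIneqLib.isNoetherian_proper (X := π.fiber s) (S.residueField s)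
  haveI := VBLib.isRegCurve_of_smooth (S.residueField s) (X := π.fiber s) (H.dim s).le
  have hd := deg_fibre H hT hT' s
  have hg := H.genus s
  exact (CurveFF.subsingleton_H1 (k := S.residueField s) (X := π.fiber s) (H.dim s) h0
    (AmpleLib.isInvertible_pullback (π.fiberι s) hT) (by omega) :
      Subsingleton (Coh.HH (π.fiber s) ((Scheme.Modules.pullback (π.fiberι s)).obj T) 1))

include H hT hT' in
theorem fiberRank_eq (s : S) : CohIII.fiberRank π T 0 s = 3 := by
  haveI := H.conn
  obtain ⟨hp, hs, hi, h0⟩ := CurveFamLib.fibre_setup π s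
  haveI := hp; haveI := hs; haveI := hi
  haveI := EulerIneqLib.isNoetherian_proper (X := π.fiber s) (S.residueField s)
  have hd := deg_fibre H hT hT' s
  have hg := H.genus s
  haveI := subsingleton_fiberH_one H hT hT' s
  have e1 := CurveLib.euler_eq_sub (k := S.residueField s) (M := (Scheme.Modules.pullback (π.fiberι s)).obj T) (H.dim s).le
  have e2 := CurveLib.euler_eq_sub (k := S.residueField s) (M := Coh.structureModule (π.fiber s)) (H.dim s).le
  have z : Module.finrank (S.residueField s) (Coh.HH (π.fiber s) ((Scheme.Modules.pullback (π.fiberι s)).obj T) 1) = 0 :=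
    Module.finrank_zero_of_subsingleton
  unfold Curv2.deg at hd
  unfold Curv2.genus at hg
  show Module.finrank (S.residueField s) (Coh.HH (π.fiber s) ((Scheme.Modules.pullback (π.fiberι s)).obj T) 0) = 3
  omega

include H hT hT' in
theorem exists_goodNear (s : S) : GenBCLib.GoodNear π T 0 s := by
  obtain ⟨hq, hfp⟩ := PullbackMod.isQCoh_and_isFP_of_isFinLocFree T (CurveLib.isFinLocFree_of_isInvertible hT)
  haveI := hq
  obtain ⟨V, D, hsV⟩ := GenBCLib.exists_dat_at hfp
    (TildePerf.isFlatOver_of_isFinLocFree π (CurveLib.isFinLocFree_of_isInvertible hT)) s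
  obtain ⟨a, ha, -, hsp, -⟩ := D.exists_vanish hsV (subsingleton_fiberH_one H hT hT' s)
  exact ⟨V, D, a, ha, hsp⟩

include H hT hT' in
theorem rank_push : FlatMod.IsFinLocFreeOfRank 3 ((Scheme.Modules.pushforward π).obj T) := by
  haveI : Coh.IsQCoh T := InvExt.isQCoh_of_isInvertible hT
  haveI : Coh.IsQCoh ((Scheme.Modules.pushforward π).obj T) := QCohLib.isQCoh_pushforward T π
  have hfree := RelVALib.isFinLocFree_push π hT (subsingleton_fiberH_one H hT hT')
  refine (PullbackMod.isFinLocFreeOfRank_iff_freeAt _ (PullbackMod.isQCoh_and_isFP_of_isFinLocFree _ hfree).2 _).2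
    fun s => ?_
  obtain ⟨V, D, a, ha, hga⟩ := exists_goodNear H hT hT' s
  exact fiberRank_eq H hT hT' s ▸ D.freeAt_of_good ha hga

include H hT hT' in
theorem isRelVeryAmple : RelProj.IsRelVeryAmple π T := by
  haveI := H.conn
  refine RelVALib.isRelVeryAmple_curve π H.dim hT fun s => ?_
  have hd := deg_fibre H hT hT' s
  have hg := H.genus s
  omega

include H hT hT' in
theorem isClosedImmersion_of_univ {P : Scheme.{u}} {p : P ⟶ S} {O1 : P.Modules}
    {q : (Scheme.Modules.pullback p).obj ((Scheme.Modules.pushforward π).obj T) ⟶ O1}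
    (hP : KRR.IsProjBundle p ((Scheme.Modules.pushforward π).obj T) O1 q) (h : C ⟶ P) (hg : h ≫ p = π)
    (e : (Scheme.Modules.pullback h).obj O1 ≅ T)
    (he : qb q hg ≫ e.hom = (Scheme.Modules.pullbackPushforwardAdjunction π).counit.app T) : IsClosedImmersion h := by
  let E := (Scheme.Modules.pushforward π).obj T
  haveI : Coh.IsQCoh T := InvExt.isQCoh_of_isInvertible hT
  haveI hE : Coh.IsQCoh E := QCohLib.isQCoh_pushforward T π
  haveI : IsProper p := PBundleLib.isProper_of_charts fun x => PBundleLib.exists_chart (rank_push H hT hT') hP x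
  obtain ⟨P', p', O1', φ, ⟨D⟩⟩ := ProjBundleLib.exists_bundle hE
  have hP' := PBundleLib.isProjBundle_of_pdata D
  obtain ⟨hG, himm⟩ := ProjBundleLib.canonical_of_locally hT
    (ProjBundleLib.locally_of_isRelVeryAmple (isRelVeryAmple H hT hT')) D
  obtain ⟨r, hr, -⟩ := D.existsUnique_compat_of_gens hT hG
  haveI := himm r hr
  obtain ⟨hrq, τ, hτ⟩ := D.exists_iso_of_compat
    (((Scheme.Modules.pullbackPushforwardAdjunction π).homEquiv _ _).symm (𝟙 E)) (r := r)
    (by simpa only [ProjBundleLib.sigma, Equiv.apply_symm_apply] using hr)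
  have hcounit : ((Scheme.Modules.pullbackPushforwardAdjunction π).homEquiv E T).symm (𝟙 E) =
      (Scheme.Modules.pullbackPushforwardAdjunction π).counit.app T := by
    rw [Adjunction.homEquiv_counit, CategoryTheory.Functor.map_id, Category.id_comp]
  rw [hcounit] at hτ
  haveI := hP.epi
  obtain ⟨ψ, ⟨hψ, a, ha⟩, -⟩ := hP'.univ P p O1 hP.invertible q inferInstance
  have ha' : qb (PBundleLib.univQ φ) hψ ≫ a.hom = q := ha
  have hψπ : (h ≫ ψ) ≫ p' = π := by rw [Category.assoc, hψ, hg]
  haveI hiso : IsIso (qb a.hom (rfl : h ≫ ψ = h ≫ ψ)) := by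
    rw [qb_rfl]
    infer_instance
  haveI : Epi ((Scheme.Modules.pullbackPushforwardAdjunction π).counit.app T) :=
    S5725.result π T hT (isRelVeryAmple H hT hT')
  obtain ⟨r₀, -, huniq⟩ := hP'.univ C π T (PBundleLib.rank_of_isInvertible hT)
    ((Scheme.Modules.pullbackPushforwardAdjunction π).counit.app T) inferInstance
  have e1 := huniq r ⟨hrq, τ, by
    rw [← hτ]
    simp only [ProjBundleLib.pullAdj, Category.assoc]⟩
  have e2 := huniq (h ≫ ψ) ⟨hψπ, asIso (qb a.hom (rfl : h ≫ ψ = h ≫ ψ)) ≪≫ e, by
    show qb (PBundleLib.univQ φ) hψπ ≫ qb a.hom _ ≫ e.hom = _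
    rw [← Category.assoc, ← qb_qb (PBundleLib.univQ φ) hψ rfl hg hψπ a.hom, ha']
    exact he⟩
  haveI : IsImmersion (h ≫ ψ) := by rw [e2, ← e1]; infer_instance
  haveI : IsImmersion h := IsImmersion.of_comp h ψ
  haveI : IsProper (h ≫ p) := by rw [hg]; infer_instance
  haveI : IsProper h := IsProper.of_comp h p
  exact IsClosedImmersion.of_isPreimmersion h h.isClosedMap.isClosed_range

end Groth.Agent.AntiCanLib
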